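import Cfsg.Agent.Pres.Cost

/-! Building root subgroups in a covering group. -/

set_option autoImplicit false

namespace Cfsg.Agent.Pres

open Subgroup Cfsg.Agent.RGD Cfsg.Agent.RGD.RootComb Polynomial
open scoped commutatorElement

section spans
variable {K : Type*} [Field K]

/-- the powers of `c` span the field additively -/
def Spans (c : K) : Prop := ∀ a : K, a ∈ AddSubmonoid.closure (Set.range fun i : ℕ => c ^ i)

theorem spans_of_surj (p : ℕ) [Fact p.Prime] [Algebra (ZMod p) K] {c : K}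
    (h : Function.Surjective (aeval c : (ZMod p)[X] → K)) : Spans c := by
  intro a
  obtain ⟨k, n, rfl⟩ := SL2Pres.exists_coeffs p h a
  refine AddSubmonoid.sum_mem _ fun i _ => ?_
  rw [← nsmul_eq_mul]
  exact AddSubmonoid.nsmul_mem _ (AddSubmonoid.subset_closure (Set.mem_range_self i)) _

theorem surj_of_spans (p : ℕ) [Fact p.Prime] [Algebra (ZMod p) K] {c : K} (h : Spans c) :
    Function.Surjective (aeval c : (ZMod p)[X] → K) := by
  intro a
  induction h a using AddSubmonoid.closure_induction with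
  | mem x hx => obtain ⟨i, rfl⟩ := hx; exact ⟨X ^ i, by simp⟩
  | zero => exact ⟨0, map_zero _⟩
  | add x y _ _ hx hy =>
    obtain ⟨f, rfl⟩ := hx
    obtain ⟨g, rfl⟩ := hy
    exact ⟨f + g, map_add _ _ _⟩

theorem exists_prim (K : Type*) [Field K] [Fintype K] :
    ∃ ζ : Kˣ, orderOf ζ = Fintype.card K - 1 := by
  obtain ⟨ζ, hζ⟩ := IsCyclic.exists_ofOrder_eq_natCard (α := Kˣ)
  exact ⟨ζ, by rw [hζ, Nat.card_units, Nat.card_eq_fintype_card]⟩

variable [Fintype K] {ζ : Kˣ}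

theorem spans_prim (hζ : orderOf ζ = Fintype.card K - 1) : Spans (ζ : K) := by
  intro a
  by_cases ha : a = 0
  · rw [ha]; exact zero_mem _
  · obtain ⟨n, rfl⟩ := SL2Pres.exists_pow_eq hζ ha
    exact AddSubmonoid.subset_closure ⟨n, rfl⟩

theorem spans_sq (hζ : orderOf ζ = Fintype.card K - 1) : Spans ((ζ : K) ^ 2) := by
  obtain ⟨p, hp⟩ := CharP.exists K
  have : Fact p.Prime := ⟨CharP.char_is_prime K p⟩
  let _ : Algebra (ZMod p) K := ZMod.algebra K p
  exact spans_of_surj p (SL2Pres.surj_sq p hζ)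

theorem spans_cube (hζ : orderOf ζ = Fintype.card K - 1) (h4 : Fintype.card K ≠ 4) :
    Spans ((ζ : K) ^ 3) := by
  obtain ⟨p, hp⟩ := CharP.exists K
  have : Fact p.Prime := ⟨CharP.char_is_prime K p⟩
  let _ : Algebra (ZMod p) K := ZMod.algebra K p
  refine spans_of_surj p (SL2Pres.aeval_surjective p _ fun d hd hq e => ?_)
  have hr : 2 ≤ p ^ d := le_trans (Fact.out : p.Prime).two_le (Nat.le_self_pow (by omega) p)
  obtain ⟨r, hr'⟩ := Nat.exists_eq_add_of_le hr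
  rw [hr'] at e hq
  have h1 : (ζ : K) ^ (3 * (1 + r)) = 1 := by
    apply mul_left_cancel₀ (pow_ne_zero 3 ζ.ne_zero)
    rw [mul_one]
    nth_rewrite 2 [← e]
    ring
  have h2 := SL2Pres.dvd_of_pow_eq_one hζ h1
  have h3 := Nat.le_of_dvd (by omega) h2
  have : (2 + r) ^ 2 = 4 + 4 * r + r ^ 2 := by ring
  have hr0 : r = 0 := by omega
  subst hr0
  omega

theorem spans_inv {c : K} (h : Spans c) (hc : c ≠ 0) : Spans c⁻¹ := by
  intro a
  refine AddSubmonoid.closure_mono ?_ (h a)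
  rintro _ ⟨i, rfl⟩
  have h1 := FiniteField.pow_card_sub_one_eq_one c hc
  have h2 : 1 < Fintype.card K := Fintype.one_lt_card
  refine ⟨(Fintype.card K - 2) * i, ?_⟩
  have : c⁻¹ ^ (Fintype.card K - 2) = c := by
    rw [inv_pow, inv_eq_iff_eq_inv]
    apply eq_inv_of_mul_eq_one_left
    rw [← pow_succ, ← h1]; congr 1; omega
  simp only [pow_mul, this]

end spans

section add
variable {K G H : Type*} [Field K] [Group G] [Group H]

theorem add_mem_of_closure {φ : K → G} (add : ∀ a b, φ (a + b) = φ a * φ b) {S : Set K}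
    {A : Subgroup G} (h : ∀ a ∈ S, φ a ∈ A) {a : K} (ha : a ∈ AddSubmonoid.closure S) : φ a ∈ A := by
  induction ha using AddSubmonoid.closure_induction with
  | mem x hx => exact h x hx
  | zero => rw [SL2Pres.phi_zero add]; exact one_mem _
  | add x y _ _ hx hy => rw [add]; exact mul_mem hx hy

theorem add_mem_of_spans {φ : K → G} (add : ∀ a b, φ (a + b) = φ a * φ b) {c a₀ : K}
    (hc : Spans c) (h0 : a₀ ≠ 0) {A : Subgroup G} (h : ∀ i : ℕ, φ (c ^ i * a₀) ∈ A) (a : K) :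
    φ a ∈ A := by
  have := add_mem_of_closure (φ := fun a => φ (a * a₀)) (fun a b => by rw [add_mul, add])
    (S := Set.range fun i : ℕ => c ^ i) (A := A) (by rintro _ ⟨i, rfl⟩; exact h i) (hc (a * a₀⁻¹))
  simpa [h0] using this

/-- the subgroup generated by the conjugates of `u` under the powers of `g` -/
def AG (g u : G) : Subgroup G := closure (Set.range fun i : ℕ => SL2Pres.cj g i u)

theorem map_AG (φ : G →* H) (g u : G) : (AG g u).map φ = AG (φ g) (φ u) := by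
  rw [AG, AG, MonoidHom.map_closure, ← Set.range_comp]
  congr 2; ext i; exact SL2Pres.map_cj φ g i u

theorem cj_mem_AG (g u : G) (i : ℕ) : SL2Pres.cj g i u ∈ AG g u := subset_closure ⟨i, rfl⟩

theorem self_mem_AG (g u : G) : u ∈ AG g u := by
  simpa [SL2Pres.cj_zero] using cj_mem_AG g u 0

/-- an additive family with a scalar action -/
structure IsAdd (φ : K → G) (g u : G) (c : K) : Prop where
  add : ∀ a b, φ (a + b) = φ a * φ b
  one : φ 1 = u
  conj : ∀ a, g * φ a * g⁻¹ = φ (c * a)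

theorem IsAdd.mem_AG {φ : K → G} {g u : G} {c : K} (h : IsAdd φ g u c) (hc : Spans c) {y : G} :
    y ∈ AG g u ↔ ∃ a, φ a = y := by
  constructor
  · intro hy
    induction hy using closure_induction with
    | mem x hx => obtain ⟨i, rfl⟩ := hx; exact ⟨_, by rw [← h.one]; exact (SL2Pres.phi_cj h.conj i 1).symm⟩
    | one => exact ⟨0, SL2Pres.phi_zero h.add⟩
    | mul x y _ _ hx hy =>
      obtain ⟨a, rfl⟩ := hx
      obtain ⟨b, rfl⟩ := hy
      exact ⟨a + b, h.add a b⟩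
    | inv x _ hx => obtain ⟨a, rfl⟩ := hx; exact ⟨-a, SL2Pres.phi_neg h.add a⟩
  · rintro ⟨a, rfl⟩
    refine add_mem_of_spans h.add hc one_ne_zero (fun i => ?_) a
    rw [← SL2Pres.phi_cj h.conj, h.one]; exact cj_mem_AG g u i

theorem IsAdd.map {φ : K → G} {g u : G} {c : K} (h : IsAdd φ g u c) (θ : G →* H) :
    IsAdd (fun a => θ (φ a)) (θ g) (θ u) c :=
  ⟨fun a b => by rw [h.add, map_mul], by rw [h.one], fun a => by
    rw [← h.conj, map_mul, map_mul, map_inv]⟩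

theorem IsAdd.unique {φ ψ : K → G} {g u : G} {c : K} (h : IsAdd φ g u c) (h' : IsAdd ψ g u c)
    (hc : Spans c) (a : K) : φ a = ψ a := by
  induction hc a using AddSubmonoid.closure_induction with
  | mem x hx =>
    obtain ⟨i, rfl⟩ := hx
    have e1 := SL2Pres.phi_cj h.conj i 1
    have e2 := SL2Pres.phi_cj h'.conj i 1
    rw [mul_one] at e1 e2
    simp only
    rw [← e1, ← e2, h.one, h'.one]
  | zero => rw [SL2Pres.phi_zero h.add, SL2Pres.phi_zero h'.add]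
  | add x y _ _ hx hy => rw [h.add, h'.add, hx, hy]

theorem IsAdd.inf_ker {φ : K → G} {g u : G} {c : K} (h : IsAdd φ g u c) (hc : Spans c)
    {θ : G →* H} {x : K → H} (hx : IsAdd x (θ g) (θ u) c) (hi : ∀ a, x a = 1 → a = 0) :
    AG g u ⊓ θ.ker = ⊥ := by
  rw [eq_bot_iff]
  rintro y ⟨h1, h2⟩
  obtain ⟨a, rfl⟩ := (h.mem_AG hc).1 h1
  have : x a = 1 := by rw [← (h.map θ).unique hx hc a]; exact h2
  rw [hi a this, SL2Pres.phi_zero h.add]; exact one_mem _

theorem IsAdd.finite [Finite K] {φ : K → G} {g u : G} {c : K} (h : IsAdd φ g u c) (hc : Spans c) :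
    Finite (AG g u) := by
  have : (AG g u : Set G) = Set.range φ := by ext y; exact h.mem_AG hc
  exact (this ▸ Set.finite_range φ : (AG g u : Set G).Finite)

theorem cj_eq_of_le_finite {A : Subgroup G} [Finite A] {t : G} (h : cj t A ≤ A) : cj t A = A :=
  eq_of_le_of_card_ge h (card_map_of_injective (MulAut.conj t).injective).ge

theorem conj_mem_AG {g u y : G} (hy : y ∈ AG g u) : g * y * g⁻¹ ∈ AG g u := by
  induction hy using closure_induction with
  | mem x hx => obtain ⟨i, rfl⟩ := hx; rw [← SL2Pres.cj_succ]; exact cj_mem_AG g u _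
  | one => simp
  | mul x y _ _ hx hy => simpa [mul_assoc] using mul_mem hx hy
  | inv x _ hx => simpa [mul_assoc] using inv_mem hx

theorem cj_AG_le {g u t : G} {B : Subgroup G} (h1 : t * g * t⁻¹ ∈ normalizer (B : Set G))
    (h2 : t * u * t⁻¹ ∈ B) : cj t (AG g u) ≤ B := by
  rw [cj, map_AG, AG, closure_le]
  rintro _ ⟨i, rfl⟩
  exact (mem_normalizer_iff.1 (pow_mem h1 i) _).1 h2

theorem self_norm_AG {g u : G} [Finite (AG g u)] : g ∈ normalizer (AG g u : Set G) :=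
  mem_normalizer_iff_cj.2 (cj_eq_of_le_finite (cj_le_iff.2 fun _ => conj_mem_AG))

theorem norm_AG {g u t : G} [Finite (AG g u)] (h1 : t * g * t⁻¹ ∈ normalizer (AG g u : Set G))
    (h2 : t * u * t⁻¹ ∈ AG g u) : t ∈ normalizer (AG g u : Set G) :=
  mem_normalizer_iff_cj.2 (cj_eq_of_le_finite (cj_AG_le h1 h2))

theorem norm_AG_of_commute {g u t : G} [Finite (AG g u)] (h1 : Commute t g)
    (h2 : t * u * t⁻¹ ∈ AG g u) : t ∈ normalizer (AG g u : Set G) :=
  norm_AG (by rw [h1.eq, mul_inv_cancel_right]; exact self_norm_AG) h2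

end add

section costadd
variable {X : Type} {H K : Type*} [Group H] [Field K] [Fintype K] {f : X → H}

theorem cost_add_of {x : K → H} {g u : FreeGroup X} {c : K}
    (hx : IsAdd x (FreeGroup.lift f g) (FreeGroup.lift f u) c) (hc : Spans c) {r : ℕ}
    (h : Cost f r fun C => ∀ i, Commute (C.ev u) (SL2Pres.cj (C.ev g) i (C.ev u))) :
    Cost f (r + 2) fun C => ∃ φ : K → C.G, IsAdd φ (C.ev g) (C.ev u) c := by
  obtain ⟨p, hp⟩ := CharP.exists K
  have : Fact p.Prime := ⟨CharP.char_is_prime K p⟩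
  let _ : Algebra (ZMod p) K := ZMod.algebra K p
  have h1 : FreeGroup.lift f (u ^ p) = 1 := by
    rw [map_pow, ← hx.one, ← SL2Pres.phi_nsmul hx.add, CharP.cast_eq_zero, zero_mul,
      SL2Pres.phi_zero hx.add]
  have h2 : FreeGroup.lift f (SL2Pres.cw u g (fun i => ((minpoly (ZMod p) c).coeff i).val)
      ((minpoly (ZMod p) c).natDegree + 1)) = 1 := by
    rw [SL2Pres.map_cw, ← hx.one, SL2Pres.phi_cw hx.add hx.conj, SL2Pres.sum_minpoly,
      SL2Pres.phi_zero hx.add]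
  refine (h.and ((cost_one _ h1).and (cost_one _ h2))).imp ?_
  rintro C ⟨k1, k2, k3⟩
  rw [map_pow] at k2
  rw [SL2Pres.map_cw] at k3
  obtain ⟨φ, e1, e2, e3⟩ := SL2Pres.exists_phi p c (surj_of_spans p hc) k2 k1 (Nat.lt_succ_self _) k3
  exact ⟨φ, e1, e2, e3⟩

omit [Fintype K] in
theorem IsAdd.commute {G : Type*} [Group G] {x : K → G} {g u : G} {c : K} (hx : IsAdd x g u c)
    (a b : K) : Commute (x a) (x b) := by
  rw [Commute, SemiconjBy, ← hx.add, ← hx.add, add_comm]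

omit [Fintype K] in
theorem IsAdd.conj_pow {G : Type*} [Group G] {x : K → G} {g u : G} {c : K} (hx : IsAdd x g u c)
    (i : ℕ) (a : K) : g ^ i * x a * (g ^ i)⁻¹ = x (c ^ i * a) := SL2Pres.phi_cj hx.conj i a

/-- four relations for a transitive torus -/
theorem cost_add {x : K → H} {g u : FreeGroup X} {ζ : Kˣ} (hζ : orderOf ζ = Fintype.card K - 1)
    (hx : IsAdd x (FreeGroup.lift f g) (FreeGroup.lift f u) (ζ : K)) :
    Cost f 4 fun C => ∃ φ : K → C.G, IsAdd φ (C.ev g) (C.ev u) (ζ : K) := by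
  refine cost_add_of (r := 2) hx (spans_prim hζ) ?_
  by_cases h1 : 1 + (ζ : K) = 0
  · refine (cost_eq (g * u * g⁻¹) u⁻¹ ?_).mono (by omega) fun C hC i => ?_
    · rw [map_mul, map_mul, map_inv, map_inv, ← hx.one, hx.conj, ← SL2Pres.phi_neg hx.add]
      congr 1; linear_combination h1
    · simp only [map_mul, map_inv] at hC
      induction i with
      | zero => rw [SL2Pres.cj_zero]
      | succ i ih =>
        have := SL2Pres.conj_commute (C.ev g) ih
        rw [hC, ← SL2Pres.cj_succ] at this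
        simpa using this.inv_left
  · obtain ⟨j, hj⟩ := SL2Pres.exists_pow_eq hζ h1
    refine ((cost_commute u (SL2Pres.cj g 1 u) ?_).and
      (cost_eq (g ^ j * u * (g ^ j)⁻¹) (u * SL2Pres.cj g 1 u) ?_)).imp ?_
    · rw [SL2Pres.map_cj, ← hx.one, SL2Pres.phi_cj hx.conj]; exact hx.commute _ _
    · simp only [map_mul, map_inv, map_pow, SL2Pres.map_cj]
      rw [← hx.one, hx.conj_pow, SL2Pres.phi_cj hx.conj, ← hx.add, hj]; simp
    · rintro C ⟨k1, k2⟩
      simp only [map_mul, map_inv, map_pow, SL2Pres.map_cj] at k1 k2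
      exact SL2Pres.baumslag ((Commute.refl _).pow_right j) k1 k2

end costadd

section sec
variable {Γ Φ : Type*} [Group Γ] [MulAction Γ Φ] {G H : Type*} [Group G] [Group H]

variable (Γ Φ) in
/-- base points of the orbits and transporting elements -/
structure Sec where
  /-- the base point -/
  b : Φ → Φ
  /-- the transporter -/
  c : Φ → Γ
  hc : ∀ r, c r • b r = r
  hb : ∀ (γ : Γ) r, b (γ • r) = b r

namespace Sec
variable (S : Sec Γ Φ)

/-- transported elements -/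
def tr (ρ : Γ → G) (a : Φ → G) (r : Φ) : G := ρ (S.c r) * a (S.b r) * (ρ (S.c r))⁻¹

/-- transported subgroups -/
def V (ρ : Γ → G) (A : Φ → Subgroup G) (r : Φ) : Subgroup G := cj (ρ (S.c r)) (A (S.b r))

theorem map_tr (φ : G →* H) (ρ : Γ → G) (a : Φ → G) (r : Φ) :
    φ (S.tr ρ a r) = S.tr (fun γ => φ (ρ γ)) (fun r => φ (a r)) r := by simp [tr]

theorem map_V (φ : G →* H) (ρ : Γ → G) (A : Φ → Subgroup G) (r : Φ) :
    (S.V ρ A r).map φ = S.V (fun γ => φ (ρ γ)) (fun r => (A r).map φ) r := map_cj _ _ _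

theorem b_b (r : Φ) : S.b (S.b r) = S.b r := by
  conv_rhs => rw [← S.hc r, S.hb]

theorem stab (γ : Γ) (r : Φ) : ((S.c (γ • r))⁻¹ * γ * S.c r) • S.b r = S.b r := by
  rw [mul_smul, mul_smul, S.hc, inv_smul_eq_iff, ← S.hb γ r, S.hc]

theorem tr_smul {ρ : Γ →* G} {a : Φ → G} {r : Φ}
    (h : ∀ σ : Γ, σ • S.b r = S.b r → Commute (ρ σ) (a (S.b r))) (γ : Γ) :
    S.tr ρ a (γ • r) = ρ γ * S.tr ρ a r * (ρ γ)⁻¹ := by
  have := (h _ (S.stab γ r)).eq
  rw [← mul_inv_eq_iff_eq_mul] at this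
  rw [tr, tr, S.hb]
  conv_lhs => rw [← this]
  simp only [map_mul, map_inv]; group

theorem tr_base {ρ : Γ →* G} {a : Φ → G} {r : Φ}
    (h : ∀ σ : Γ, σ • S.b r = S.b r → Commute (ρ σ) (a (S.b r))) :
    S.tr ρ a (S.b r) = a (S.b r) := by
  have h1 := S.hc (S.b r)
  rw [tr, S.b_b] at *
  rw [(h _ h1).eq, mul_inv_cancel_right]

theorem V_smul {ρ : Γ →* G} {A : Φ → Subgroup G} {r : Φ}
    (h : ∀ σ : Γ, σ • S.b r = S.b r → cj (ρ σ) (A (S.b r)) = A (S.b r)) (γ : Γ) :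
    cj (ρ γ) (S.V ρ A r) = S.V ρ A (γ • r) := by
  have := h _ (S.stab γ r)
  rw [V, V, S.hb]
  conv_rhs => rw [← this]
  rw [← cj_mul, ← cj_mul, ← map_mul, ← map_mul]
  congr 2; group

theorem V_base {ρ : Γ →* G} {A : Φ → Subgroup G} {r : Φ}
    (h : ∀ σ : Γ, σ • S.b r = S.b r → cj (ρ σ) (A (S.b r)) = A (S.b r)) :
    S.V ρ A (S.b r) = A (S.b r) := by
  have h1 := S.hc (S.b r)
  rw [V, S.b_b] at *
  exact h _ h1

theorem over_V {θ : G →* H} {ρ : Γ → G} {A : Φ → Subgroup G} {U : Φ → Subgroup H}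
    (hι : ∀ γ r, cj (θ (ρ γ)) (U r) = U (γ • r)) (h0 : ∀ r, (A (S.b r)).map θ = U (S.b r))
    (h1 : ∀ r, A (S.b r) ⊓ θ.ker = ⊥) : Over θ (S.V ρ A) U where
  map r := by rw [V, map_cj, h0, hι, S.hc]
  ker r := by rw [V, ← cj_ker θ (ρ (S.c r)), ← cj_inf, h1, cj_eq_bot]

theorem norm_V {ρ : Γ →* G} {A : Φ → Subgroup G} {T : Subgroup G}
    (hT : ∀ γ, ∀ t ∈ T, ρ γ * t * (ρ γ)⁻¹ ∈ T) (h : ∀ r, T ≤ normalizer (A (S.b r) : Set G))
    (r : Φ) : T ≤ normalizer (S.V ρ A r : Set G) := by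
  intro t ht
  have := mem_normalizer_iff_cj.1 (h r (hT (S.c r)⁻¹ t ht))
  rw [mem_normalizer_iff_cj, V]
  conv_rhs => rw [← this]
  rw [← cj_mul, ← cj_mul]
  congr 1; simp [mul_assoc]

end Sec

theorem cj_US_of {ρ : Γ →* G} {V : Φ → Subgroup G} (h : ∀ γ r, cj (ρ γ) (V r) = V (γ • r))
    (γ : Γ) : cj (ρ γ) (US V Set.univ) = US V Set.univ := by
  have : ∀ γ, cj (ρ γ) (US V Set.univ) ≤ US V Set.univ := fun γ =>
    cj_US_le fun r _ => (h γ r).le.trans (le_US (Set.mem_univ _))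
  exact cj_eq_of_le (this γ) (by rw [← map_inv]; exact this _)

theorem comm_smul {ρ : Γ →* G} {V : Φ → Subgroup G} (h : ∀ γ r, cj (ρ γ) (V r) = V (γ • r))
    {r s : Φ} {I J : Set Φ} (γ : Γ) (hI : ∀ t ∈ I, γ • t ∈ J) (h1 : ⁅V r, V s⁆ ≤ US V I) :
    ⁅V (γ • r), V (γ • s)⁆ ≤ US V J := by
  rw [← h, ← h, ← cj_commutator]
  exact (cj_mono _ h1).trans (cj_US_le fun t ht => (h γ t).le.trans (le_US (hI t ht)))

theorem comm_smul_bot {ρ : Γ →* G} {V : Φ → Subgroup G} (h : ∀ γ r, cj (ρ γ) (V r) = V (γ • r))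
    {r s : Φ} (γ : Γ) (h1 : ⁅V r, V s⁆ = ⊥) : ⁅V (γ • r), V (γ • s)⁆ = ⊥ := by
  rw [← h, ← h, ← cj_commutator, h1, cj_eq_bot]

theorem comm_smul_one {ρ : Γ →* G} {V : Φ → Subgroup G} (h : ∀ γ r, cj (ρ γ) (V r) = V (γ • r))
    {r s t : Φ} (γ : Γ) (h1 : ⁅V r, V s⁆ ≤ V t) : ⁅V (γ • r), V (γ • s)⁆ ≤ V (γ • t) := by
  rw [← h, ← h, ← h, ← cj_commutator]; exact cj_mono _ h1

theorem mem_of_normalClosure {ρ : Γ →* G} {S : Subgroup G} (h : ∀ γ, cj (ρ γ) S = S) {s : Set Γ}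
    (hs : ∀ γ ∈ s, ρ γ ∈ S) (hn : normalClosure s = ⊤) (γ : Γ) : ρ γ ∈ S := by
  have : (S.comap ρ).Normal := ⟨fun x hx g => by
    rw [mem_comap, map_mul, map_mul, map_inv, ← h g]; exact conj_mem_cj hx⟩
  exact (normalClosure_le_normal (N := S.comap ρ) hs) (hn ▸ mem_top γ)

end sec

section spread
variable {G : Type*} [Group G]

theorem comm_mem_left {M : Subgroup G} {b : G} :
    ∃ S : Subgroup G, ∀ a, a ∈ S ↔ a ∈ normalizer (M : Set G) ∧ ⁅a, b⁆ ∈ M := by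
  refine ⟨{ carrier := {a | a ∈ normalizer (M : Set G) ∧ ⁅a, b⁆ ∈ M}
            one_mem' := ⟨one_mem _, by simp⟩
            mul_mem' := ?_
            inv_mem' := ?_ }, fun a => Iff.rfl⟩
  · rintro a a' ⟨h1, h2⟩ ⟨h3, h4⟩
    refine ⟨mul_mem h1 h3, ?_⟩
    have : ⁅a * a', b⁆ = a * ⁅a', b⁆ * a⁻¹ * ⁅a, b⁆ := by simp only [commutatorElement_def]; group
    rw [this]
    exact mul_mem ((mem_normalizer_iff.1 h1 _).1 h4) h2
  · rintro a ⟨h1, h2⟩
    refine ⟨inv_mem h1, ?_⟩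
    have : ⁅a⁻¹, b⁆ = a⁻¹ * ⁅a, b⁆⁻¹ * a⁻¹⁻¹ := by simp only [commutatorElement_def]; group
    rw [this]
    exact (mem_normalizer_iff.1 (inv_mem h1) _).1 (inv_mem h2)

theorem comm_mem_symm {M : Subgroup G} {a b : G} (h : ⁅a, b⁆ ∈ M) : ⁅b, a⁆ ∈ M := by
  rw [← commutatorElement_inv]; exact inv_mem h

theorem comm_conj_mem {M : Subgroup G} {a b t : G} (ht : t ∈ normalizer (M : Set G))
    (h : ⁅a, b⁆ ∈ M) : ⁅t * a * t⁻¹, t * b * t⁻¹⁆ ∈ M := by
  rw [← conjugate_commutatorElement]; exact (mem_normalizer_iff.1 ht _).1 h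

variable {Φ K : Type*} [Field K] (F : Fam Φ K G)

theorem conj_pow_x {t : G} {r : Φ} {c : K} (h : ∀ a, t * F.x r a * t⁻¹ = F.x r (c * a)) (i : ℕ)
    (a : K) : t ^ i * F.x r a * (t ^ i)⁻¹ = F.x r (c ^ i * a) := SL2Pres.phi_cj h i a

/-- second spreading step -/
theorem spread_right {r s : Φ} {M : Subgroup G} (hs : F.X s ≤ normalizer (M : Set G)) {t : G}
    (ht : t ∈ normalizer (M : Set G)) (htr : t ∈ normalizer (F.X r : Set G)) {d b₀ : K}
    (hd : Spans d) (hb : b₀ ≠ 0) (hts : ∀ a, t * F.x s a * t⁻¹ = F.x s (d * a))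
    (h : ∀ a, ⁅F.x r a, F.x s b₀⁆ ∈ M) : ⁅F.X r, F.X s⁆ ≤ M := by
  refine F.comm_X_le fun a b => comm_mem_symm ?_
  obtain ⟨S, hS⟩ := comm_mem_left (M := M) (b := F.x r a)
  refine ((hS _).1 (add_mem_of_spans (F.x_add s) hd hb (fun i => ?_) b)).2
  refine (hS _).2 ⟨hs (F.x_mem _ _), comm_mem_symm ?_⟩
  obtain ⟨a', ha'⟩ := F.mem_X.1 ((mem_normalizer_iff.1 (inv_mem (pow_mem htr i)) _).1 (F.x_mem r a))
  have := comm_conj_mem (pow_mem ht i) (h a')
  rwa [conj_pow_x F hts, ha', show t ^ i * ((t ^ i)⁻¹ * F.x r a * (t ^ i)⁻¹⁻¹) * (t ^ i)⁻¹ = F.x r a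
    by group] at this

/-- first spreading step -/
theorem spread_left {r : Φ} {M : Subgroup G} (hr : F.X r ≤ normalizer (M : Set G)) {b : G}
    {S : Set K} (hS : ∀ a, a ∈ AddSubmonoid.closure S) (h : ∀ a ∈ S, ⁅F.x r a, b⁆ ∈ M) (a : K) :
    ⁅F.x r a, b⁆ ∈ M := by
  obtain ⟨B, hB⟩ := comm_mem_left (M := M) (b := b)
  exact ((hB _).1 (add_mem_of_closure (F.x_add r)
    (fun a ha => (hB _).2 ⟨hr (F.x_mem _ _), h a ha⟩) (hS a))).2

theorem spread_left' {r : Φ} {M : Subgroup G} (hr : F.X r ≤ normalizer (M : Set G)) {b t : G}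
    (ht : t ∈ normalizer (M : Set G)) (htb : t * b * t⁻¹ = b) {c a₀ : K} (hc : Spans c)
    (ha : a₀ ≠ 0) (htr : ∀ a, t * F.x r a * t⁻¹ = F.x r (c * a)) (h : ⁅F.x r a₀, b⁆ ∈ M) (a : K) :
    ⁅F.x r a, b⁆ ∈ M := by
  obtain ⟨B, hB⟩ := comm_mem_left (M := M) (b := b)
  refine ((hB _).1 (add_mem_of_spans (F.x_add r) hc ha (fun i => ?_) a)).2
  refine (hB _).2 ⟨hr (F.x_mem _ _), ?_⟩
  have := comm_conj_mem (pow_mem ht i) h
  have e : Commute t b := mul_inv_eq_iff_eq_mul.1 htb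
  rwa [conj_pow_x F htr, (e.pow_left i).eq, mul_inv_cancel_right] at this

variable {F} {H : Type*} [Group H] {E : Fam Φ K H} {θ : G →* H}

/-- the action on a lifted family is determined downstairs -/
theorem conj_lift (hθ : ∀ r t, θ (F.x r t) = E.x r t) (hi : ∀ r t, E.x r t = 1 → t = 0) {g : G}
    {r s : Φ} (hg : cj g (F.X r) = F.X s) {a b : K} (h : θ g * E.x r a * (θ g)⁻¹ = E.x s b) :
    g * F.x r a * g⁻¹ = F.x s b :=
  eq_of_inf_ker ((E.over_of hθ hi).ker s) (hg ▸ conj_mem_cj (F.x_mem r a)) (F.x_mem s b)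
    (by rw [map_mul, map_mul, map_inv, hθ, hθ, h])

theorem eq_lift (hθ : ∀ r t, θ (F.x r t) = E.x r t) (hi : ∀ r t, E.x r t = 1 → t = 0) {g : G}
    {r : Φ} (hg : g ∈ F.X r) {a : K} (h : θ g = E.x r a) : g = F.x r a :=
  eq_of_inf_ker ((E.over_of hθ hi).ker r) hg (F.x_mem r a) (by rw [hθ, h])

theorem norm_of_comm_bot {A B : Subgroup G} (h : ⁅A, B⁆ = ⊥) : A ≤ normalizer (B : Set G) :=
  (commutator_eq_bot_iff_le_centralizer.1 h).trans (centralizer_le_normalizer _)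

end spread

end Cfsg.Agent.Pres
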