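import Cfsg.Agent.SymAlt.Pres
import Cfsg.Agent.SL2.Pres2
import Cfsg.Agent.RGD.Chev

/-! A calculus for counting the relations that force a property of a covering group. -/

set_option autoImplicit false

namespace Cfsg.Agent.Pres

open Subgroup Cfsg.Agent.SymAlt

variable {X : Type} {H : Type*} [Group H]

/-- A group generated by elements lying over the `f x`. -/
structure Cov (f : X → H) where
  /-- the carrier -/
  G : Type
  [grp : Group G]
  /-- evaluation of words -/
  ev : FreeGroup X →* G
  /-- the covering map -/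
  θ : G →* H
  comp : ∀ w, θ (ev w) = FreeGroup.lift f w
  surj : Function.Surjective ev

attribute [instance] Cov.grp

/-- At most `r` relations that hold among the `f x` force `P`. -/
def Cost (f : X → H) (r : ℕ) (P : Cov f → Prop) : Prop :=
  ∃ R : Finset (FreeGroup X), R.card ≤ r ∧ (∀ w ∈ R, FreeGroup.lift f w = 1) ∧
    ∀ c : Cov f, (∀ w ∈ R, c.ev w = 1) → P c

variable {f : X → H}

theorem Cost.mono {r s : ℕ} {P Q : Cov f → Prop} (h : Cost f r P) (hrs : r ≤ s)
    (hPQ : ∀ c, P c → Q c) : Cost f s Q := by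
  obtain ⟨R, h1, h2, h3⟩ := h
  exact ⟨R, h1.trans hrs, h2, fun c hc => hPQ c (h3 c hc)⟩

theorem Cost.imp {r : ℕ} {P Q : Cov f → Prop} (h : Cost f r P)
    (hPQ : ∀ c, P c → Q c) : Cost f r Q := h.mono le_rfl hPQ

theorem Cost.le {r s : ℕ} {P : Cov f → Prop} (h : Cost f r P) (hrs : r ≤ s) : Cost f s P :=
  h.mono hrs fun _ h => h

theorem Cost.and {r s : ℕ} {P Q : Cov f → Prop} (h : Cost f r P) (h' : Cost f s Q) :
    Cost f (r + s) fun c => P c ∧ Q c := by
  classical
  obtain ⟨R, h1, h2, h3⟩ := h
  obtain ⟨S, k1, k2, k3⟩ := h'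
  refine ⟨R ∪ S, (Finset.card_union_le _ _).trans (Nat.add_le_add h1 k1), fun w hw => ?_,
    fun c hc => ⟨h3 c fun w hw => hc w (Finset.mem_union_left _ hw),
      k3 c fun w hw => hc w (Finset.mem_union_right _ hw)⟩⟩
  rcases Finset.mem_union.1 hw with h | h
  · exact h2 w h
  · exact k2 w h

theorem cost_true {P : Cov f → Prop} (h : ∀ c, P c) : Cost f 0 P :=
  ⟨∅, le_rfl, by simp, fun c _ => h c⟩

theorem cost_eq (a b : FreeGroup X) (h : FreeGroup.lift f a = FreeGroup.lift f b) :
    Cost f 1 fun c => c.ev a = c.ev b := by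
  refine ⟨{a * b⁻¹}, by simp, by simp [h], fun c hc => ?_⟩
  have := hc _ (Finset.mem_singleton_self _)
  rwa [map_mul, map_inv, mul_inv_eq_one] at this

theorem cost_one (a : FreeGroup X) (h : FreeGroup.lift f a = 1) :
    Cost f 1 fun c => c.ev a = 1 :=
  (cost_eq a 1 (by rw [h, map_one])).imp fun c hc => by rw [hc, map_one]

theorem cost_commute (a b : FreeGroup X) (h : Commute (FreeGroup.lift f a) (FreeGroup.lift f b)) :
    Cost f 1 fun c => Commute (c.ev a) (c.ev b) :=
  (cost_eq (a * b) (b * a) (by rw [map_mul, map_mul, h.eq])).imp fun c hc => by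
    rw [map_mul, map_mul] at hc; exact hc

theorem cost_mem (a : FreeGroup X) (S : Subgroup (FreeGroup X))
    (h : FreeGroup.lift f a ∈ S.map (FreeGroup.lift f)) :
    Cost f 1 fun c => c.ev a ∈ S.map c.ev := by
  obtain ⟨b, hb, e⟩ := h
  exact (cost_eq a b e.symm).imp fun c hc => ⟨b, hb, hc.symm⟩

theorem cost_list {ι : Type*} (l : List ι) {P : ι → Cov f → Prop} (h : ∀ i ∈ l, Cost f 1 (P i)) :
    Cost f l.length fun c => ∀ i ∈ l, P i c := by
  induction l with
  | nil => exact cost_true (by simp)
  | cons a l ih =>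
    refine ((h a (by simp)).and (ih fun i hi => h i (by simp [hi]))).mono (by simp [add_comm]) ?_
    rintro c ⟨h1, h2⟩ i hi
    rcases List.mem_cons.1 hi with rfl | hi
    · exact h1
    · exact h2 i hi

theorem Cost.hasRels {r : ℕ} (h : Cost f r fun c => Function.Injective c.θ) : HasRels f r := by
  obtain ⟨R, h1, h2, h3⟩ := h
  have hle : normalClosure (R : Set (FreeGroup X)) ≤ (FreeGroup.lift f).ker :=
    normalClosure_le_normal fun w hw => h2 w hw
  refine ⟨R, h1, le_antisymm (fun w hw => ?_) hle⟩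
  let c : Cov f :=
    { G := FreeGroup X ⧸ normalClosure (R : Set (FreeGroup X))
      ev := QuotientGroup.mk' _
      θ := QuotientGroup.lift _ (FreeGroup.lift f) hle
      comp := fun _ => rfl
      surj := QuotientGroup.mk'_surjective _ }
  have := h3 c fun w hw => (QuotientGroup.eq_one_iff _).2 (subset_normalClosure hw)
  have h4 : c.ev w = 1 := this (by rw [c.comp, map_one]; exact hw)
  exact (QuotientGroup.eq_one_iff _).1 h4

/-- A subgroup with a known presentation lifts to the cover. -/
theorem cost_hom {Y Γ : Type*} [Group Γ] {g : Y → Γ} {r : ℕ} (hg : HasRels g r)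
    (htop : closure (Set.range g) = ⊤) (ι : Γ →* H) (j : Y → FreeGroup X)
    (hj : ∀ y, FreeGroup.lift f (j y) = ι (g y)) :
    ∃ W : Γ → FreeGroup X, (∀ γ, FreeGroup.lift f (W γ) = ι γ) ∧
      Cost f r fun c => ∃ ρ : Γ →* c.G, (∀ γ, ρ γ = c.ev (W γ)) ∧ ∀ y, ρ (g y) = c.ev (j y) := by
  classical
  obtain ⟨R, h1, h2⟩ := hg
  choose w hw using fun γ => exists_word g (h := γ) (htop ▸ mem_top γ)
  have e1 : (FreeGroup.lift f).comp (FreeGroup.lift j) = ι.comp (FreeGroup.lift g) := by
    ext y; simp [hj]
  have e2 : ∀ v, FreeGroup.lift f (FreeGroup.lift j v) = ι (FreeGroup.lift g v) :=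
    fun v => DFunLike.congr_fun e1 v
  refine ⟨fun γ => FreeGroup.lift j (w γ), fun γ => by rw [e2, hw],
    R.image (FreeGroup.lift j), Finset.card_image_le.trans h1, ?_, fun c hc => ?_⟩
  · intro v hv
    obtain ⟨v', hv', rfl⟩ := Finset.mem_image.1 hv
    have : v' ∈ (FreeGroup.lift g).ker := h2 ▸ subset_normalClosure hv'
    rw [e2, this, map_one]
  · have hs : Function.Surjective (FreeGroup.lift g) := fun γ => ⟨w γ, hw γ⟩
    have hk : (FreeGroup.lift g).ker ≤ (c.ev.comp (FreeGroup.lift j)).ker := by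
      rw [h2]
      exact normalClosure_le_normal fun v hv => hc _ (Finset.mem_image_of_mem _ hv)
    let ρ := (FreeGroup.lift g).liftOfSurjective hs ⟨_, hk⟩
    have hρ : ∀ v, ρ (FreeGroup.lift g v) = c.ev (FreeGroup.lift j v) := fun v =>
      MonoidHom.liftOfRightInverse_comp_apply _ _ _ _ v
    refine ⟨ρ, fun γ => by rw [← hρ, hw], fun y => ?_⟩
    have := hρ (FreeGroup.of y)
    rwa [FreeGroup.lift_apply_of, FreeGroup.lift_apply_of] at this

/-- Commuting with a finitely generated subgroup. -/
theorem cost_cent {Γ : Type*} [Group Γ] (W : Γ → FreeGroup X) (l : List Γ) (a : FreeGroup X)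
    (h : ∀ σ ∈ l, Commute (FreeGroup.lift f (W σ)) (FreeGroup.lift f a)) :
    Cost f l.length fun c => ∀ ρ : Γ →* c.G, (∀ γ, ρ γ = c.ev (W γ)) →
      ∀ σ ∈ closure {σ | σ ∈ l}, Commute (ρ σ) (c.ev a) := by
  refine (cost_list l fun σ hσ => cost_commute (W σ) a (h σ hσ)).imp fun c hc ρ hρ σ hσ => ?_
  induction hσ using closure_induction with
  | mem x hx => rw [hρ]; exact hc x hx
  | one => rw [map_one]; exact Commute.one_left _
  | mul x y _ _ hx hy => rw [map_mul]; exact hx.mul_left hy
  | inv x _ hx => rw [map_inv]; exact hx.inv_left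

theorem Cov.top (c : Cov f) {S : Subgroup c.G} (h : ∀ x, c.ev (FreeGroup.of x) ∈ S) : S = ⊤ := by
  rw [eq_top_iff]
  intro g _
  obtain ⟨w, rfl⟩ := c.surj g
  induction w using FreeGroup.induction_on with
  | C1 => rw [map_one]; exact one_mem _
  | of x => exact h x
  | inv_of x _ => rw [map_inv]; exact inv_mem (h x)
  | mul a b ha hb => rw [map_mul]; exact mul_mem (ha trivial) (hb trivial)

/-- padding with trivial generators -/
theorem hasRels_pad {k d r : ℕ} {g : Fin k → H} (h : HasRels g r) (hkd : k ≤ d) :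
    ∃ g' : Fin d → H, HasRels g' (r + (d - k)) ∧ closure (Set.range g') = closure (Set.range g) := by
  classical
  refine ⟨fun i => if h : i.1 < k then g ⟨i.1, h⟩ else 1, ?_, ?_⟩
  · have := h.tietze_aux (g := fun i : Fin d => if h : i.1 < k then g ⟨i.1, h⟩ else 1)
      (FreeGroup.lift fun i => FreeGroup.of (Fin.castLE hkd i))
      (FreeGroup.lift fun i => if h : i.1 < k then FreeGroup.of ⟨i.1, h⟩ else 1) ?_ ?_
      (Finset.univ.filter fun i => ¬ i.1 < k) ?_
    · refine this.mono (Nat.add_le_add_left ?_ _)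
      have e : (Finset.univ.filter fun i : Fin d => ¬ i.1 < k) =
          (Finset.univ.map (Fin.castLEEmb hkd))ᶜ := by
        ext i
        simp only [Finset.mem_filter, Finset.mem_univ, true_and, Finset.mem_compl, Finset.mem_map,
          Fin.castLEEmb_apply, not_exists]
        constructor
        · rintro h j rfl; exact h j.2
        · intro h h'; exact h ⟨i.1, h'⟩ rfl
      rw [e, Finset.card_compl, Finset.card_map]; simp
    · ext i; simp
    · ext i; by_cases h : i.1 < k <;> simp [h]
    · intro y hy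
      have hy' : y.1 < k := by simpa using hy
      simp [hy']
  · apply le_antisymm <;> rw [closure_le]
    · rintro _ ⟨i, rfl⟩
      by_cases h : i.1 < k
      · simp only [h, dite_true]; exact subset_closure ⟨_, rfl⟩
      · simp only [h, dite_false]; exact one_mem _
    · rintro _ ⟨i, rfl⟩
      exact subset_closure ⟨Fin.castLE hkd i, by simp⟩

theorem hasRels_out {Y : Type*} {g : Y → H} {r : ℕ} (h : HasRels g r)
    (hg : closure (Set.range g) = ⊤) :
    ∃ rels : Finset (FreeGroup Y), rels.card ≤ r ∧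
      Nonempty (PresentedGroup (↑rels : Set (FreeGroup Y)) ≃* H) := by
  obtain ⟨R, h1, e, -⟩ := h.exists_equiv hg
  exact ⟨R, h1, ⟨e⟩⟩

/-- Passing to a quotient by the normal closure of `k` elements costs `k` relations. -/
theorem hasRels_quot {Y Q : Type*} [Group Q] {g : Y → H} {r : ℕ} (h : HasRels g r)
    (hg : closure (Set.range g) = ⊤) (π : H →* Q) (l : List H)
    (hl : π.ker = normalClosure {z | z ∈ l}) : HasRels (π ∘ g) (r + l.length) := by
  classical
  obtain ⟨R, h1, h2⟩ := h
  choose w hw using fun z => exists_word g (h := z) (hg ▸ mem_top z)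
  have e : FreeGroup.lift (π ∘ g) = π.comp (FreeGroup.lift g) := by ext x; simp
  refine ⟨R ∪ (l.map w).toFinset, (Finset.card_union_le _ _).trans
    (Nat.add_le_add h1 ((List.toFinset_card_le _).trans (by simp))), le_antisymm ?_ ?_⟩
  · set N := normalClosure ((R ∪ (l.map w).toFinset : Finset _) : Set (FreeGroup Y))
    have hs : Function.Surjective (FreeGroup.lift g) := fun z => ⟨w z, hw z⟩
    have hk : (FreeGroup.lift g).ker ≤ N := by
      rw [h2]; exact normalClosure_mono (by simp)
    have hN : (N.map (FreeGroup.lift g)).Normal := Subgroup.Normal.map inferInstance _ hs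
    have h3 : π.ker ≤ N.map (FreeGroup.lift g) := by
      rw [hl]
      refine normalClosure_le_normal fun z hz => ⟨w z, subset_normalClosure ?_, hw z⟩
      simp only [Finset.coe_union, List.coe_toFinset, Set.mem_union, List.mem_map]
      exact Or.inr ⟨z, hz, rfl⟩
    intro v hv
    rw [e] at hv
    obtain ⟨v', h4, h5⟩ := h3 (show FreeGroup.lift g v ∈ π.ker from hv)
    have : v'⁻¹ * v ∈ N := hk (by rw [MonoidHom.mem_ker, map_mul, map_inv, h5, inv_mul_cancel])
    simpa using mul_mem h4 this
  · refine normalClosure_le_normal fun v hv => ?_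
    simp only [Finset.coe_union, List.coe_toFinset, Set.mem_union, List.mem_map] at hv
    rw [SetLike.mem_coe, MonoidHom.mem_ker, e, MonoidHom.comp_apply]
    rcases hv with hv | ⟨z, hz, rfl⟩
    · have : v ∈ (FreeGroup.lift g).ker := h2 ▸ subset_normalClosure hv
      rw [this, map_one]
    · rw [hw]
      have : z ∈ π.ker := hl ▸ subset_normalClosure hz
      exact this

theorem closure_range_comp {Y Q : Type*} [Group Q] {g : Y → H}
    (hg : closure (Set.range g) = ⊤) (π : H →* Q) (hπ : Function.Surjective π) :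
    closure (Set.range (π ∘ g)) = ⊤ := by
  rw [Set.range_comp, ← MonoidHom.map_closure, hg, ← MonoidHom.range_eq_map,
    MonoidHom.range_eq_top.2 hπ]

/-- A cyclic centre costs one relation. -/
theorem hasRels_center {Y : Type*} {g : Y → H} {r : ℕ} (h : HasRels g r)
    (hg : closure (Set.range g) = ⊤) (hc : IsCyclic (center H)) :
    HasRels (QuotientGroup.mk' (center H) ∘ g) (r + 1) := by
  obtain ⟨z, hz⟩ := IsCyclic.exists_generator (α := center H)
  refine hasRels_quot h hg _ [z.1] ?_
  rw [QuotientGroup.ker_mk']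
  refine le_antisymm (fun y hy => ?_) (normalClosure_le_normal ?_)
  · obtain ⟨k, hk⟩ := hz ⟨y, hy⟩
    have : y = z.1 ^ k := by simpa using congrArg Subtype.val hk.symm
    rw [this]
    exact zpow_mem (subset_normalClosure (by simp)) _
  · intro y hy
    rw [show y = z.1 by simpa using hy]; exact z.2

end Cfsg.Agent.Pres
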